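import Groth.Agent.L01.Wiebe.Main
import Groth.Agent.L21.GorensteinQuotient
import Groth.Agent.L21.GorensteinLCI
import Groth.Agent.L12.GrSectGor
import Groth.Agent.L07.RegularQuotient
import Groth.Agent.L07.KoszulVars
import Groth.Agent.L07.KoszulFlat
import Groth.Agent.L19.SquarePres
import Groth.Agent.L08.InvDepth
import Groth.Agent.S9137
import Mathlib.RingTheory.MvPolynomial.Ideal

/-!
# Gorenstein invariant rings (Watanabe): the local computation at the origin

A retract of a polynomial ring, containing a system of parameters `f = M X` at the origin with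
`det M` in the retract, is Gorenstein at the origin.
-/

set_option autoImplicit false
set_option linter.style.haveILetI false
set_option maxSynthPendingDepth 3

universe u

open RingTheory.Sequence IsLocalRing

noncomputable section

namespace Groth.L08.Watanabe

/-- Gorenstein can be checked modulo a regular sequence. -/
theorem gorenstein_of_regular_quot : ∀ (L : Type u) [CommRing L] [IsLocalRing L] [IsNoetherianRing L] (rs : List L),
    (∀ r ∈ rs, r ∈ maximalIdeal L) → IsWeaklyRegular L rs →
      LocCoh.IsGorensteinLocalRing (L ⧸ Ideal.ofList rs) → LocCoh.IsGorensteinLocalRing L := by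
  intro L _ _ _ rs
  induction hn : rs.length generalizing L with
  | zero =>
    intro _ _ hG
    obtain rfl := List.length_eq_zero_iff.1 hn
    exact Groth.L21.GorensteinAscend.isGorensteinLocalRing_of_ringEquiv
      ((Ideal.quotEquivOfEq Ideal.ofList_nil).trans (RingEquiv.quotientBot L)) hG
  | succ n ih =>
    intro hm hr hG
    obtain ⟨x, rs, rfl⟩ : ∃ x t, rs = x :: t := List.exists_cons_of_length_eq_add_one hn
    rw [isWeaklyRegular_cons_iff] at hr
    have hx : x ∈ maximalIdeal L := hm x List.mem_cons_self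
    have hxr : x ∈ nonZeroDivisors L := mem_nonZeroDivisors_iff.2
      ⟨fun z hz => hr.1 (by simpa using hz), fun z hz => hr.1 (by simpa [mul_comm] using hz)⟩
    haveI : Nontrivial (L ⧸ Ideal.span {x}) := Ideal.Quotient.nontrivial_iff.2 fun h =>
      (maximalIdeal.isMaximal L).ne_top (top_le_iff.1 (h ▸ (Ideal.span_singleton_le_iff_mem _).2 hx))
    haveI : IsLocalRing (L ⧸ Ideal.span {x}) := IsLocalRing.of_surjective' _ Ideal.Quotient.mk_surjective
    refine (Groth.L21.GorensteinQuotient.isGorensteinLocalRing_quotient_iff L x hx hxr).2 ?_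
    have hr' : IsWeaklyRegular (L ⧸ Ideal.span {x}) (rs.map (Ideal.Quotient.mk (Ideal.span {x}))) := by
      rw [← Ideal.Quotient.algebraMap_eq, isWeaklyRegular_map_algebraMap_iff]
      refine (LinearEquiv.isWeaklyRegular_congr (Submodule.quotEquivOfEq _ _ ?_) rs).1 hr.2
      rw [← Submodule.ideal_span_singleton_smul, smul_eq_mul, Ideal.mul_top]
    refine ih (L ⧸ Ideal.span {x}) (rs.map (Ideal.Quotient.mk _)) (by simpa using hn) (fun r hr => by
      obtain ⟨r, hr', rfl⟩ := List.mem_map.1 hr
      rw [← IsLocalRing.map_maximalIdeal_of_surjective (Ideal.Quotient.mk (Ideal.span {x})) Ideal.Quotient.mk_surjective]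
      exact Ideal.mem_map_of_mem _ (hm r (List.mem_cons_of_mem x hr'))) hr' ?_
    refine Groth.L21.GorensteinAscend.isGorensteinLocalRing_of_ringEquiv
      ((Ideal.quotEquivOfEq ?_).trans ((DoubleQuot.quotQuotEquivQuotSup _ _).trans
        (Ideal.quotEquivOfEq (Ideal.ofList_cons x rs).symm))).symm hG
    rw [Ideal.map_ofList]

/-- In a local ring with nilpotent maximal ideal every nonzero element has a nonzero socle multiple. -/
theorem exists_socle_multiple {R : Type*} [CommRing R] (m : Ideal R) :
    ∀ (N : ℕ) (a : R), a ≠ 0 → (∀ x ∈ m ^ N, a * x = 0) → ∃ t, a * t ≠ 0 ∧ ∀ x ∈ m, a * t * x = 0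
  | 0, a, ha, h => absurd (by simpa using h 1 (by simp)) ha
  | N + 1, a, ha, h => by
    by_cases h1 : ∀ x ∈ m, a * x = 0
    · exact ⟨1, by simpa using ha, by simpa using h1⟩
    · push Not at h1
      obtain ⟨x, hx, hax⟩ := h1
      obtain ⟨t, ht, ht'⟩ := exists_socle_multiple m N (a * x) hax fun y hy => by
        rw [mul_assoc]
        exact h _ (by rw [pow_succ']; exact Ideal.mul_mem_mul hx hy)
      exact ⟨x * t, by rwa [← mul_assoc], fun y hy => by rw [← mul_assoc a]; exact ht' y hy⟩

/-- An Artinian local algebra with finite residue field in which a fixed nonzero element is a multiple of every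
nonzero element is Gorenstein. -/
theorem gorenstein_of_common_multiple (k : Type u) {R : Type u} [Field k] [CommRing R] [IsLocalRing R] [Algebra k R]
    [IsArtinianRing R] [Module.Finite k (ResidueField R)] (d : R) (hd : d ≠ 0)
    (h : ∀ a, a ≠ 0 → ∃ b, a * b = d) : LocCoh.IsGorensteinLocalRing R := by
  haveI : Module.Finite k R := Groth.S9137aux.finite_of_artinian_residue k R
  obtain ⟨ψ, hψ⟩ := (LinearMap.toSpanSingleton k R d).exists_leftInverse_of_injective
    (LinearMap.ker_eq_bot.2 fun c c' hc => smul_left_injective k hd hc)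
  refine Groth.L12.GrSectLead.isGorensteinLocalRing_of_functional ψ fun a ha => by_contra fun hne => ?_
  obtain ⟨b, hb⟩ := h a hne
  have h1 : ψ d = 1 := by simpa using LinearMap.congr_fun hψ 1
  rw [← hb, ha b] at h1
  exact zero_ne_one h1

variable {k : Type u} [Field k] {n : ℕ} {A : Type u} [CommRing A] [IsNoetherianRing A] [Algebra k A]
  [Algebra A (MvPolynomial (Fin n) k)] [IsScalarTower k A (MvPolynomial (Fin n) k)]


/-- The ideal of the origin. -/
abbrev orig (k : Type u) [Field k] (n : ℕ) : Ideal (MvPolynomial (Fin n) k) :=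
  RingHom.ker (MvPolynomial.constantCoeff : MvPolynomial (Fin n) k →+* k)

instance orig_isMaximal : (orig k n).IsMaximal :=
  RingHom.ker_isMaximal_of_surjective _ fun c => ⟨MvPolynomial.C c, MvPolynomial.constantCoeff_C _ c⟩

theorem orig_eq_span : orig k n = Ideal.span (Set.range MvPolynomial.X) := by
  refine le_antisymm (fun p hp => ?_) ?_
  · have key : ∀ p : (MvPolynomial (Fin n) k), p - MvPolynomial.C (MvPolynomial.constantCoeff p) ∈
        Ideal.span (Set.range MvPolynomial.X) := by
      intro p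
      induction p using MvPolynomial.induction_on with
      | C r => simp
      | add a b ha hb =>
        rw [map_add, map_add, add_sub_add_comm]
        exact Submodule.add_mem _ ha hb
      | mul_X a j ha =>
        rw [map_mul, MvPolynomial.constantCoeff_X, mul_zero, map_zero, sub_zero]
        exact Ideal.mul_mem_left _ _ (Ideal.subset_span ⟨j, rfl⟩)
    have h := key p
    rwa [RingHom.mem_ker.1 hp, map_zero, sub_zero] at h
  · rw [Ideal.span_le]
    rintro _ ⟨i, rfl⟩
    simp [orig, RingHom.mem_ker]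

variable (ret : (MvPolynomial (Fin n) k) →ₗ[A] A) (hret : ∀ a : A, ret (algebraMap A (MvPolynomial (Fin n) k) a) = a)
  (hN : ∀ u : (MvPolynomial (Fin n) k), u ∉ orig k n → ∃ a : A, a ∉ (orig k n).under A ∧ u ∣ algebraMap A (MvPolynomial (Fin n) k) a)

include hret hN in
/-- The invariant ring is Gorenstein at the origin. -/
theorem gorenstein_localization_origin (f : Fin n → A) (hf : ∀ i, f i ∈ (orig k n).under A)
    (hmin : ∀ P : Ideal (MvPolynomial (Fin n) k), P.IsPrime → P ≤ orig k n → (∀ i, algebraMap A (MvPolynomial (Fin n) k) (f i) ∈ P) → P = orig k n)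
    (δ : A) (M : Matrix (Fin n) (Fin n) (MvPolynomial (Fin n) k)) (hM : algebraMap A (MvPolynomial (Fin n) k) δ = M.det)
    (hfM : ∀ i, algebraMap A (MvPolynomial (Fin n) k) (f i) = ∑ j, M i j * MvPolynomial.X j) :
    LocCoh.IsGorensteinLocalRing (Localization.AtPrime ((orig k n).under A)) := by
  classical
  let q := (orig k n).under A
  let B := Localization.AtPrime q
  let T := Localization.AtPrime (orig k n)
  let θ : B →+* T := Localization.localRingHom q (orig k n) (algebraMap A (MvPolynomial (Fin n) k)) rfl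
  letI : Algebra B T := θ.toAlgebra
  haveI : IsScalarTower A B T := IsScalarTower.of_algebraMap_eq fun a => by
    show algebraMap A T a = θ (algebraMap A B a)
    rw [Localization.localRingHom_to_map, IsScalarTower.algebraMap_apply A (MvPolynomial (Fin n) k) T]
  haveI hlocT : IsLocalization (Algebra.algebraMapSubmonoid (MvPolynomial (Fin n) k) q.primeCompl) T := by
    haveI : IsLocalization (orig k n).primeCompl T := inferInstance
    refine (isLocalization_iff _ _).2 ⟨?_, ?_, ?_⟩
    · rintro ⟨_, a, ha, rfl⟩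
      exact IsLocalization.map_units T (⟨algebraMap A (MvPolynomial (Fin n) k) a, ha⟩ : (orig k n).primeCompl)
    · intro z
      obtain ⟨⟨s, ⟨u, hu⟩⟩, hz⟩ := IsLocalization.surj (orig k n).primeCompl z
      obtain ⟨a, ha, w, hw⟩ := hN u hu
      refine ⟨(s * w, ⟨_, a, ha, rfl⟩), ?_⟩
      show z * algebraMap (MvPolynomial (Fin n) k) T (algebraMap A (MvPolynomial (Fin n) k) a) = algebraMap (MvPolynomial (Fin n) k) T (s * w)
      rw [hw, map_mul, map_mul, ← mul_assoc, hz]
    · intro x y hxy
      obtain ⟨⟨c, hc⟩, hcxy⟩ := IsLocalization.exists_of_eq (M := (orig k n).primeCompl) hxy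
      obtain ⟨a, ha, w, hw⟩ := hN c hc
      refine ⟨⟨_, a, ha, rfl⟩, ?_⟩
      show algebraMap A (MvPolynomial (Fin n) k) a * x = algebraMap A (MvPolynomial (Fin n) k) a * y
      rw [hw, mul_right_comm, hcxy, mul_right_comm]
  haveI hmT : IsLocalizedModule q.primeCompl (IsScalarTower.toAlgHom A (MvPolynomial (Fin n) k) T).toLinearMap :=
    isLocalizedModule_iff_isLocalization.mpr hlocT
  let π : T →ₗ[B] B := IsLocalizedModule.mapExtendScalars q.primeCompl (IsScalarTower.toAlgHom A (MvPolynomial (Fin n) k) T).toLinearMap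
    (Algebra.linearMap A B) B ret
  have hπS : ∀ s : (MvPolynomial (Fin n) k), π (algebraMap (MvPolynomial (Fin n) k) T s) = algebraMap A B (ret s) := fun s =>
    IsLocalizedModule.map_apply q.primeCompl (IsScalarTower.toAlgHom A (MvPolynomial (Fin n) k) T).toLinearMap (Algebra.linearMap A B) ret s
  have hπ : ∀ b : B, π (algebraMap B T b) = b := fun b => by
    rw [Algebra.algebraMap_eq_smul_one, map_smul, ← map_one (algebraMap (MvPolynomial (Fin n) k) T), hπS, ← map_one (algebraMap A (MvPolynomial (Fin n) k)), hret,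
      map_one, smul_eq_mul, mul_one]
  haveI : IsRegularLocalRing T := IsRegularRing.isRegularLocalRing_localization _
  haveI : IsNoetherianRing B := IsLocalization.isNoetherianRing q.primeCompl B inferInstance
  let fB : Fin n → B := fun i => algebraMap A B (f i)
  let fT : Fin n → T := fun i => algebraMap (MvPolynomial (Fin n) k) T (algebraMap A (MvPolynomial (Fin n) k) (f i))
  let gT : Fin n → T := fun i => algebraMap (MvPolynomial (Fin n) k) T (MvPolynomial.X i)
  let MT : Matrix (Fin n) (Fin n) T := M.map (algebraMap (MvPolynomial (Fin n) k) T)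
  have hfgT : ∀ i, fT i = ∑ j, MT i j * gT j := fun i => by simp [fT, MT, gT, hfM]
  have hθf : ∀ i, algebraMap B T (fB i) = fT i := fun i => by
    show θ (algebraMap A B (f i)) = _
    rw [Localization.localRingHom_to_map]
  have hfTm : ∀ i, fT i ∈ maximalIdeal T := fun i =>
    (IsLocalization.AtPrime.to_map_mem_maximal_iff T (orig k n) _).2 (hf i)
  let I := Ideal.span (Set.range fT)
  have hIm : I ≤ maximalIdeal T := Ideal.span_le.2 (Set.range_subset_iff.2 hfTm)
  have hrad : ∀ P : Ideal T, P.IsPrime → I ≤ P → P = maximalIdeal T := by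
    intro P hP hIP
    have h1 : P.comap (algebraMap (MvPolynomial (Fin n) k) T) = orig k n := by
      refine hmin _ inferInstance ?_ fun i => hIP (Ideal.subset_span ⟨i, rfl⟩)
      intro s hs
      by_contra h
      exact hP.ne_top (Ideal.eq_top_of_isUnit_mem _ hs (IsLocalization.map_units T (⟨s, h⟩ : (orig k n).primeCompl)))
    rw [← IsLocalization.map_comap (orig k n).primeCompl T P, ← Localization.AtPrime.map_eq_maximalIdeal]
    exact congrArg _ h1
  haveI : Nontrivial (T ⧸ I) := Ideal.Quotient.nontrivial_iff.2 fun h =>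
    (maximalIdeal.isMaximal T).ne_top (top_le_iff.1 (h ▸ hIm))
  haveI : IsLocalRing (T ⧸ I) := IsLocalRing.of_surjective' _ Ideal.Quotient.mk_surjective
  haveI h0T : Ring.KrullDimLE 0 (T ⧸ I) := Ring.krullDimLE_zero_iff.2 fun J hJ => by
    have h1 := hrad (J.comap (Ideal.Quotient.mk I)) inferInstance fun x hx => by
      simp [Ideal.mem_comap, Ideal.Quotient.eq_zero_iff_mem.2 hx]
    have h2 : (J.comap (Ideal.Quotient.mk I)).IsMaximal := h1 ▸ maximalIdeal.isMaximal T
    rw [← Ideal.map_comap_of_surjective _ Ideal.Quotient.mk_surjective J]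
    refine (Ideal.map_eq_top_or_isMaximal_of_surjective _ Ideal.Quotient.mk_surjective h2).resolve_left fun h => hJ.ne_top ?_
    rwa [Ideal.map_comap_of_surjective _ Ideal.Quotient.mk_surjective] at h
  haveI : IsArtinianRing (T ⧸ I) := IsNoetherianRing.isArtinianRing_of_krullDimLE_zero
  have hofT : Ideal.ofList (List.ofFn fT) = I := Groth.L01.Wiebe.ofList_ofFn fT
  have hregT : IsWeaklyRegular T (List.ofFn fT) := by
    refine Groth.L07.RegQuot.isWeaklyRegular_of_dim _ (fun r hr => ?_) ?_
    · obtain ⟨i, rfl⟩ := List.mem_ofFn.mp hr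
      exact hfTm i
    · rw [List.length_ofFn, IsLocalization.AtPrime.ringKrullDim_eq_height (orig k n) T,
        Groth.L19.SquarePres.height_maximal, ringKrullDim_eq_of_ringEquiv (Ideal.quotEquivOfEq hofT)]
      have : ringKrullDim (T ⧸ I) ≤ 0 := (Ring.krullDimLE_iff).1 h0T
      exact (add_le_add_left this _).trans (by simp)
  have hkT : LCI.IsKoszulRegularSeq T (List.ofFn fT) :=
    (Groth.L07.KoszulPerm.isKoszulRegularSeq_iff _).2 fun m hm =>
      Groth.L04.Koszul.isZero_of_isWeaklyRegular _ (ModuleCat.of T T) hregT m hm.ne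
  have hkX : LCI.IsKoszulRegularSeq T (List.ofFn gT) := by
    have := Groth.L07.KoszulFlat.isKoszulRegularSeq_map (algebraMap (MvPolynomial (Fin n) k) T)
      (RingHom.flat_algebraMap_iff.mpr (IsLocalization.flat T (orig k n).primeCompl)) _
      (Groth.L07.KoszulVars.isKoszulRegularSeq_X k n)
    rwa [List.map_ofFn] at this
  have hgspan : Ideal.span (Set.range gT) = maximalIdeal T := by
    rw [← Localization.AtPrime.map_eq_maximalIdeal]
    refine Eq.trans ?_ (congrArg (Ideal.map (algebraMap (MvPolynomial (Fin n) k) T)) orig_eq_span).symm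
    rw [Ideal.map_span, ← Set.range_comp]
    rfl
  have hW := Groth.L01.Wiebe.wiebe fT gT MT hfgT hkT hkX
  let Δ : T := algebraMap (MvPolynomial (Fin n) k) T M.det
  have hΔ : MT.det = Δ := ((algebraMap (MvPolynomial (Fin n) k) T).map_det M).symm
  have hΔ0 : Δ ∉ I := fun h => by
    have := (hW 1).2 (by rw [one_mul, hΔ]; exact h)
    rw [hgspan] at this
    exact (maximalIdeal.isMaximal T).ne_top ((Ideal.eq_top_iff_one _).2 this)
  -- every nonzero element of `T ⧸ I` divides `Δ`
  have hdivT : ∀ a : T, a ∉ I → ∃ t : T, a * t - Δ ∈ I := by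
    intro a ha
    obtain ⟨N, hN'⟩ : IsNilpotent (maximalIdeal (T ⧸ I)) := by
      have := IsArtinianRing.isNilpotent_jacobson_bot (R := T ⧸ I)
      rwa [IsLocalRing.jacobson_eq_maximalIdeal ⊥ bot_ne_top] at this
    obtain ⟨t, ht0, htm⟩ := exists_socle_multiple (maximalIdeal (T ⧸ I)) N (Ideal.Quotient.mk I a)
      (fun h => ha (Ideal.Quotient.eq_zero_iff_mem.1 h)) (fun x hx => by
        rw [hN'] at hx
        rw [Ideal.mem_bot.1 hx, mul_zero])
    obtain ⟨t, rfl⟩ := Ideal.Quotient.mk_surjective t
    rw [← map_mul] at ht0 htm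
    have h1 := (hW (a * t)).1 fun j => Ideal.Quotient.eq_zero_iff_mem.1 (by
      rw [map_mul]
      refine htm _ ?_
      rw [← IsLocalRing.map_maximalIdeal_of_surjective (Ideal.Quotient.mk I) Ideal.Quotient.mk_surjective]
      exact Ideal.mem_map_of_mem _ (hgspan ▸ Ideal.subset_span ⟨j, rfl⟩))
    rw [hΔ] at h1
    obtain ⟨i, hi, d, hd, hid⟩ := Submodule.mem_sup.1 h1
    obtain ⟨c, rfl⟩ := Ideal.mem_span_singleton'.1 hd
    by_cases hc : IsUnit c
    · obtain ⟨c, rfl⟩ := hc
      refine ⟨t * ↑c⁻¹, ?_⟩
      rw [show a * (t * (↑c⁻¹ : T)) - Δ = i * ↑c⁻¹ from by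
        rw [← mul_assoc, ← hid, add_mul, mul_right_comm, Units.mul_inv, one_mul, add_sub_cancel_right]]
      exact I.mul_mem_right _ hi
    · refine absurd (Ideal.Quotient.eq_zero_iff_mem.2 ?_) ht0
      rw [← hid]
      refine I.add_mem hi ?_
      have hcm : c ∈ Ideal.span (Set.range gT) := hgspan ▸ hc
      obtain ⟨w, rfl⟩ := (Ideal.mem_span_range_iff_exists_fun).1 hcm
      rw [Finset.sum_mul]
      refine Submodule.sum_mem _ fun j _ => ?_
      rw [mul_assoc, mul_comm (gT j), ← hΔ]
      exact I.mul_mem_left _ (Groth.L01.Wiebe.det_mul_mem fT gT MT hfgT j)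
  -- descend along the retraction
  let J := Ideal.span (Set.range fB)
  have hJI : ∀ b : B, algebraMap B T b ∈ I → b ∈ J := fun b hb => by
    obtain ⟨w, hw⟩ := (Ideal.mem_span_range_iff_exists_fun).1 hb
    rw [← hπ b, ← hw, map_sum]
    refine Submodule.sum_mem _ fun i _ => ?_
    rw [mul_comm, ← hθf, ← Algebra.smul_def, map_smul, smul_eq_mul]
    exact J.mul_mem_right _ (Ideal.subset_span ⟨i, rfl⟩)
  have hJI' : J.map (algebraMap B T) ≤ I := by
    rw [Ideal.map_span, Ideal.span_le]
    rintro _ ⟨_, ⟨i, rfl⟩, rfl⟩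
    exact Ideal.subset_span ⟨i, (hθf i).symm⟩
  have hregB : IsWeaklyRegular B (List.ofFn fB) := by
    refine Groth.L08.InvDepth.isWeaklyRegular_retract (Algebra.linearMap B T) π hπ ?_
    rw [← isWeaklyRegular_map_algebraMap_iff (S := T), List.map_ofFn,
      show (algebraMap B T) ∘ fB = fT from funext hθf]
    exact hregT
  refine gorenstein_of_regular_quot B (List.ofFn fB) (fun r hr => ?_) hregB ?_
  · obtain ⟨i, rfl⟩ := List.mem_ofFn.mp hr
    exact (IsLocalization.AtPrime.to_map_mem_maximal_iff B q _).2 (hf i)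
  refine Groth.L21.GorensteinAscend.isGorensteinLocalRing_of_ringEquiv
    (Ideal.quotEquivOfEq (Groth.L01.Wiebe.ofList_ofFn fB).symm) ?_
  have hJm : J ≤ maximalIdeal B := Ideal.span_le.2 (Set.range_subset_iff.2 fun i =>
    (IsLocalization.AtPrime.to_map_mem_maximal_iff B q _).2 (hf i))
  haveI : Nontrivial (B ⧸ J) := Ideal.Quotient.nontrivial_iff.2 fun h =>
    (maximalIdeal.isMaximal B).ne_top (top_le_iff.1 (h ▸ hJm))
  haveI : IsLocalRing (B ⧸ J) := IsLocalRing.of_surjective' _ Ideal.Quotient.mk_surjective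
  haveI : IsArtinianRing (B ⧸ J) := by
    rw [isArtinianRing_iff_isNilpotent_maximalIdeal]
    obtain ⟨N, hN'⟩ : IsNilpotent (maximalIdeal (T ⧸ I)) := by
      have := IsArtinianRing.isNilpotent_jacobson_bot (R := T ⧸ I)
      rwa [IsLocalRing.jacobson_eq_maximalIdeal ⊥ bot_ne_top] at this
    refine ⟨N, ?_⟩
    rw [← IsLocalRing.map_maximalIdeal_of_surjective (Ideal.Quotient.mk J) Ideal.Quotient.mk_surjective,
      ← Ideal.map_pow, Ideal.zero_eq_bot, Ideal.map_eq_bot_iff_le_ker, Ideal.mk_ker]
    intro b hb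
    refine hJI b (Ideal.Quotient.eq_zero_iff_mem.1 ?_)
    have h1 : algebraMap B T b ∈ maximalIdeal T ^ N := by
      refine Ideal.pow_right_mono ?_ N (Ideal.map_pow (algebraMap B T) (maximalIdeal B) N ▸
        Ideal.mem_map_of_mem _ hb)
      rw [Ideal.map_le_iff_le_comap]
      exact le_of_eq (IsLocalRing.maximalIdeal_comap (algebraMap B T)).symm
    have h2 := Ideal.mem_map_of_mem (Ideal.Quotient.mk I) h1
    rw [Ideal.map_pow, IsLocalRing.map_maximalIdeal_of_surjective _ Ideal.Quotient.mk_surjective, hN'] at h2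
    exact h2
  haveI : Module.Finite k (ResidueField (B ⧸ J)) := by
    let ψ : k →ₐ[k] ResidueField (B ⧸ J) := Algebra.ofId k _
    refine Module.Finite.of_surjective ψ.toLinearMap fun z => ?_
    obtain ⟨z, rfl⟩ := residue_surjective z
    obtain ⟨b, rfl⟩ := Ideal.Quotient.mk_surjective z
    obtain ⟨a, ⟨s, hs⟩, rfl⟩ := IsLocalization.exists_mk'_eq q.primeCompl b
    have hc : ∀ a : A, a - algebraMap k A (MvPolynomial.constantCoeff (algebraMap A (MvPolynomial (Fin n) k) a)) ∈ q := fun a => by
      show MvPolynomial.constantCoeff (algebraMap A (MvPolynomial (Fin n) k) _) = 0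
      rw [map_sub, ← IsScalarTower.algebraMap_apply k A (MvPolynomial (Fin n) k), MvPolynomial.algebraMap_eq, map_sub,
        MvPolynomial.constantCoeff_C, sub_self]
    let χ : A →+* ResidueField (B ⧸ J) := (residue (B ⧸ J)).comp ((Ideal.Quotient.mk J).comp (algebraMap A B))
    have hχ : ∀ a, χ a = algebraMap k _ (MvPolynomial.constantCoeff (algebraMap A (MvPolynomial (Fin n) k) a)) := fun a => by
      rw [← sub_eq_zero]
      have h1 : χ (algebraMap k A (MvPolynomial.constantCoeff (algebraMap A (MvPolynomial (Fin n) k) a))) =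
          algebraMap k _ (MvPolynomial.constantCoeff (algebraMap A (MvPolynomial (Fin n) k) a)) := rfl
      rw [← h1, ← map_sub]
      refine (residue_eq_zero_iff _).2 ?_
      rw [← IsLocalRing.map_maximalIdeal_of_surjective (Ideal.Quotient.mk J) Ideal.Quotient.mk_surjective]
      exact Ideal.mem_map_of_mem _ ((IsLocalization.AtPrime.to_map_mem_maximal_iff B q _).2 (hc a))
    refine ⟨MvPolynomial.constantCoeff (algebraMap A (MvPolynomial (Fin n) k) a) / MvPolynomial.constantCoeff (algebraMap A (MvPolynomial (Fin n) k) s), ?_⟩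
    show algebraMap k _ _ = _
    have hne : χ s ≠ 0 := fun h => hs (by
      rw [hχ, map_eq_zero] at h
      exact h)
    rw [map_div₀, ← hχ, ← hχ, div_eq_iff hne]
    show _ = residue _ (Ideal.Quotient.mk J _) * residue _ (Ideal.Quotient.mk J _)
    rw [← map_mul, ← map_mul, IsLocalization.mk'_spec]
    rfl
  refine gorenstein_of_common_multiple k (Ideal.Quotient.mk J (algebraMap A B δ)) ?_ fun a ha => ?_
  · intro h
    refine hΔ0 ?_
    have := hJI' (Ideal.mem_map_of_mem (algebraMap B T) (Ideal.Quotient.eq_zero_iff_mem.1 h))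
    rwa [show algebraMap B T (algebraMap A B δ) = Δ by
      rw [← IsScalarTower.algebraMap_apply, IsScalarTower.algebraMap_apply A (MvPolynomial (Fin n) k) T, hM]] at this
  · obtain ⟨b, rfl⟩ := Ideal.Quotient.mk_surjective a
    obtain ⟨t, ht⟩ := hdivT (algebraMap B T b) fun h => ha (Ideal.Quotient.eq_zero_iff_mem.2 (hJI b h))
    obtain ⟨w, hw⟩ := (Ideal.mem_span_range_iff_exists_fun).1 ht
    refine ⟨Ideal.Quotient.mk J (π t), ?_⟩
    rw [← map_mul, Ideal.Quotient.mk_eq_mk_iff_sub_mem]
    have h1 : π (algebraMap B T b * t - Δ) = b * π t - algebraMap A B δ := by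
      rw [map_sub, ← Algebra.smul_def, map_smul, smul_eq_mul]
      congr 1
      rw [show Δ = algebraMap (MvPolynomial (Fin n) k) T M.det from rfl, hπS, ← hM, hret]
    rw [← h1, ← hw, map_sum]
    refine Submodule.sum_mem _ fun i _ => ?_
    rw [mul_comm, ← hθf, ← Algebra.smul_def, map_smul, smul_eq_mul]
    exact J.mul_mem_right _ (Ideal.subset_span ⟨i, rfl⟩)

end Groth.L08.Watanabe
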