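import Groth.Agent.L08.Watanabe.Core
import Groth.Agent.L12.GrLCGorCrit
import Groth.Agent.L12.GrLCBase
import Groth.Agent.S11137
import Mathlib.RingTheory.Invariant.Basic
import Mathlib.RingTheory.MvPolynomial.Homogeneous
import Mathlib.RingTheory.Adjoin.Tower

/-!
# Gorenstein invariant rings: the theorem of Watanabe
-/

set_option autoImplicit false
set_option linter.style.haveILetI false
set_option maxSynthPendingDepth 3

universe u

open MvPolynomial

noncomputable section

namespace Groth.L08.Watanabe

variable (k : Type u) [Field k] (n : ℕ)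

/-- The pieces of a polynomial ring, indexed by all integers. -/
def piece (d : ℤ) : AddSubgroup (MvPolynomial (Fin n) k) :=
  if 0 ≤ d then (homogeneousSubmodule (Fin n) k d.toNat).toAddSubgroup else ⊥

/-- The projection to a piece. -/
def proj (d : ℤ) : MvPolynomial (Fin n) k →+ MvPolynomial (Fin n) k :=
  if 0 ≤ d then (homogeneousComponent d.toNat).toAddMonoidHom else 0

variable {k n}

theorem piece_natCast (m : ℕ) : piece k n (m : ℤ) = (homogeneousSubmodule (Fin n) k m).toAddSubgroup := by
  rw [piece, if_pos (Int.natCast_nonneg m), Int.toNat_natCast]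

theorem piece_neg {d : ℤ} (hd : d < 0) : piece k n d = ⊥ := if_neg (not_le.2 hd)

theorem proj_natCast (m : ℕ) (p : MvPolynomial (Fin n) k) : proj k n (m : ℤ) p = homogeneousComponent m p := by
  rw [proj, if_pos (Int.natCast_nonneg m), Int.toNat_natCast]
  rfl

theorem mem_piece_natCast {m : ℕ} {p : MvPolynomial (Fin n) k} : p ∈ piece k n (m : ℤ) ↔ p.IsHomogeneous m := by
  rw [piece_natCast]
  rfl

theorem proj_mem (d : ℤ) (p : MvPolynomial (Fin n) k) : proj k n d p ∈ piece k n d := by
  by_cases hd : 0 ≤ d
  · lift d to ℕ using hd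
    rw [proj_natCast, mem_piece_natCast]
    exact homogeneousComponent_isHomogeneous _ _
  · rw [proj, if_neg hd]
    exact zero_mem _

theorem proj_of_mem {d e : ℤ} {p : MvPolynomial (Fin n) k} (hp : p ∈ piece k n e) :
    proj k n d p = if d = e then p else 0 := by
  by_cases he : 0 ≤ e
  · lift e to ℕ using he
    rw [mem_piece_natCast] at hp
    by_cases hd : 0 ≤ d
    · lift d to ℕ using hd
      rw [proj_natCast, homogeneousComponent_of_mem hp]
      simp [Nat.cast_inj]
    · rw [proj, if_neg hd, if_neg (fun h : d = (e : ℤ) => hd (h ▸ Int.natCast_nonneg e))]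
      rfl
  · rw [piece_neg (not_le.1 he), AddSubgroup.mem_bot] at hp
    simp [hp]

theorem mul_mem_piece {d e : ℤ} {p q : MvPolynomial (Fin n) k} (hp : p ∈ piece k n d) (hq : q ∈ piece k n e) :
    p * q ∈ piece k n (d + e) := by
  by_cases hd : 0 ≤ d
  · by_cases he : 0 ≤ e
    · lift d to ℕ using hd
      lift e to ℕ using he
      rw [mem_piece_natCast] at hp hq
      rw [← Nat.cast_add, mem_piece_natCast]
      exact hp.mul hq
    · rw [piece_neg (not_le.1 he), AddSubgroup.mem_bot] at hq
      simp [hq]
  · rw [piece_neg (not_le.1 hd), AddSubgroup.mem_bot] at hp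
    simp [hp]

theorem one_mem_piece : (1 : MvPolynomial (Fin n) k) ∈ piece k n 0 := by
  rw [← Nat.cast_zero, mem_piece_natCast]
  exact isHomogeneous_one _ _

theorem aeval_mem_piece (v : Fin n → MvPolynomial (Fin n) k) (hv : ∀ i, (v i).IsHomogeneous 1) {d : ℤ}
    {p : MvPolynomial (Fin n) k} (hp : p ∈ piece k n d) : aeval v p ∈ piece k n d := by
  by_cases hd : 0 ≤ d
  · lift d to ℕ using hd
    rw [mem_piece_natCast] at hp ⊢
    simpa using hp.aeval v hv
  · rw [piece_neg (not_le.1 hd), AddSubgroup.mem_bot] at hp
    simp [hp]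

theorem proj_aeval (v : Fin n → MvPolynomial (Fin n) k) (hv : ∀ i, (v i).IsHomogeneous 1) (d : ℤ)
    (p : MvPolynomial (Fin n) k) : proj k n d (aeval v p) = aeval v (proj k n d p) := by
  conv_lhs => rw [← sum_homogeneousComponent p]
  conv_rhs => rw [← sum_homogeneousComponent p]
  simp only [map_sum]
  refine Finset.sum_congr rfl fun i _ => ?_
  have h : homogeneousComponent i p ∈ piece k n (i : ℤ) :=
    mem_piece_natCast.2 (homogeneousComponent_isHomogeneous i p)
  rw [proj_of_mem (aeval_mem_piece v hv h), proj_of_mem h]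
  split_ifs <;> simp

variable (G : Type u) [Group G] [Finite G] (hG : IsUnit ((Nat.card G : ℕ) : k))
  (ρ : G →* Matrix.GeneralLinearGroup (Fin n) k)
  (hdet : ∀ g : G, Matrix.det ((ρ g : Matrix (Fin n) (Fin n) k)) = 1)
  [MulSemiringAction G (MvPolynomial (Fin n) k)]
  (hC : ∀ (g : G) (c : k), g • (C c : MvPolynomial (Fin n) k) = C c)
  (hX : ∀ (g : G) (i : Fin n), g • (X i : MvPolynomial (Fin n) k) =
    ∑ j : Fin n, (ρ g : Matrix (Fin n) (Fin n) k) j i • (X j : MvPolynomial (Fin n) k))
  (A : Type u) [CommRing A] [Algebra A (MvPolynomial (Fin n) k)]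
  [SMulCommClass G A (MvPolynomial (Fin n) k)] [Algebra.IsInvariant A (MvPolynomial (Fin n) k) G]
  [FaithfulSMul A (MvPolynomial (Fin n) k)]

omit [Finite G] in
include hC hX in
theorem smul_eq_aeval (g : G) (p : MvPolynomial (Fin n) k) :
    g • p = aeval (fun i => ∑ j : Fin n, (ρ g : Matrix (Fin n) (Fin n) k) j i • (X j : MvPolynomial (Fin n) k)) p := by
  induction p using MvPolynomial.induction_on with
  | C c => rw [hC, aeval_C, algebraMap_eq]
  | add a b ha hb => rw [smul_add, map_add, ha, hb]
  | mul_X a i ha => rw [smul_mul', map_mul, aeval_X, ha, hX]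

include hG hdet hC hX in
/-- **Watanabe's theorem.** -/
theorem isGorensteinRing_invariants : LocCoh.IsGorensteinRing A := by
  classical
  letI := Fintype.ofFinite G
  set φ : A →+* MvPolynomial (Fin n) k := algebraMap A (MvPolynomial (Fin n) k) with hφ
  have hinj : Function.Injective φ := FaithfulSMul.algebraMap_injective A (MvPolynomial (Fin n) k)
  have hfix : ∀ (g : G) (a : A), g • φ a = φ a := fun g a => smul_algebraMap g a
  -- the `k`-algebra structure
  have hex : ∀ c : k, ∃ a : A, φ a = C c := fun c => Algebra.IsInvariant.isInvariant (G := G) (C c) fun g => hC g c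
  choose j hj using hex
  let jk : k →+* A :=
    { toFun := j
      map_one' := hinj (by simp [hj])
      map_mul' := fun a b => hinj (by simp [hj])
      map_zero' := hinj (by simp [hj])
      map_add' := fun a b => hinj (by simp [hj]) }
  letI : Algebra k A := jk.toAlgebra
  haveI : IsScalarTower k A (MvPolynomial (Fin n) k) := IsScalarTower.of_algebraMap_eq fun c => (hj c).symm
  haveI := Algebra.IsInvariant.isIntegral A (MvPolynomial (Fin n) k) G
  haveI : Algebra.FiniteType A (MvPolynomial (Fin n) k) := Algebra.FiniteType.of_restrictScalars_finiteType k A _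
  haveI : Module.Finite A (MvPolynomial (Fin n) k) := Algebra.IsIntegral.finite
  haveI : Algebra.FiniteType k A :=
    ⟨fg_of_fg_of_fg k A (MvPolynomial (Fin n) k) Algebra.FiniteType.out Module.Finite.fg_top hinj⟩
  haveI : IsNoetherianRing A := Algebra.FiniteType.isNoetherianRing k A
  -- the Reynolds operator
  let N : k := (Nat.card G : ℕ)
  have hN0 : N ≠ 0 := hG.ne_zero
  have havg : ∀ p : MvPolynomial (Fin n) k, ∃ a : A, φ a = C N⁻¹ * ∑ g : G, g • p := fun p => by
    refine Algebra.IsInvariant.isInvariant (G := G) _ fun h => ?_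
    rw [smul_mul', hC, Finset.smul_sum]
    congr 1
    simp only [smul_smul]
    exact Equiv.sum_comp (Equiv.mulLeft h) (fun g => g • p)
  choose r hr using havg
  let ret : MvPolynomial (Fin n) k →ₗ[A] A :=
    { toFun := r
      map_add' := fun p q => hinj (by simp only [map_add, hr, smul_add, Finset.sum_add_distrib, mul_add])
      map_smul' := fun a p => hinj (by
        simp only [Algebra.smul_def, smul_mul', ← hφ, hfix, RingHom.id_apply, Algebra.algebraMap_self, smul_eq_mul,
          map_mul, hr, ← Finset.mul_sum]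
        ring) }
  have hcard : ∀ p : MvPolynomial (Fin n) k, C N⁻¹ * ((Fintype.card G : ℕ) • p) = p := fun p => by
    rw [nsmul_eq_mul, ← mul_assoc, ← map_natCast (C : k →+* MvPolynomial (Fin n) k), ← map_mul,
      ← Nat.card_eq_fintype_card, inv_mul_cancel₀ hN0, map_one, one_mul]
  have hret : ∀ a, ret (φ a) = a := fun a => hinj (by
    show φ (r (φ a)) = φ a
    simp only [hr, hfix, Finset.sum_const, Finset.card_univ]
    exact hcard _)
  let q := (orig k n).under A
  have hNorm : ∀ u : MvPolynomial (Fin n) k, u ∉ orig k n →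
      ∃ a : A, a ∉ (orig k n).under A ∧ u ∣ algebraMap A (MvPolynomial (Fin n) k) a := by
    intro u hu
    obtain ⟨a, ha⟩ := Algebra.IsInvariant.isInvariant (A := A) (G := G) (∏ g : G, g • u) fun h => by
      rw [Finset.smul_prod']
      simp only [smul_smul]
      exact Equiv.prod_comp (Equiv.mulLeft h) (fun g => g • u)
    refine ⟨a, fun hmem => ?_, ⟨∏ g ∈ Finset.univ.erase (1 : G), g • u, ?_⟩⟩
    · have h0 : constantCoeff (φ a) = 0 := hmem
      rw [hφ, ha, map_prod, Finset.prod_eq_zero_iff] at h0
      obtain ⟨g, -, hg⟩ := h0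
      refine hu (RingHom.mem_ker.2 ?_)
      have hcc : ∀ (g : G) (p : MvPolynomial (Fin n) k), constantCoeff (g • p) = constantCoeff p := by
        intro g p
        rw [smul_eq_aeval G ρ hC hX g p]
        induction p using MvPolynomial.induction_on with
        | C c => simp
        | add a b ha hb => simp only [map_add, ha, hb]
        | mul_X a i ha => simp only [map_mul, ha, aeval_X, map_sum, smul_eq_C_mul, constantCoeff_X, mul_zero, Finset.sum_const_zero]
      rwa [hcc] at hg
    · rw [ha, ← Finset.mul_prod_erase Finset.univ (fun g => g • u) (Finset.mem_univ (1 : G)), one_smul]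
  haveI : (orig k n).LiesOver q := ⟨rfl⟩
  haveI hqmax : q.IsMaximal := Ideal.isMaximal_comap_of_isIntegral_of_isMaximal (orig k n)
  -- a system of parameters
  haveI : Algebra.HasGoingDown A (MvPolynomial (Fin n) k) := Groth.Agent.S11137.result A (MvPolynomial (Fin n) k) G
  obtain ⟨s, hs, hsc⟩ := q.exists_finset_card_eq_height_of_isNoetherianRing
  have hincomp : ∀ P : Ideal (MvPolynomial (Fin n) k), P.IsPrime → P ≤ orig k n →
      (∀ x ∈ s, φ x ∈ P) → P = orig k n := by
    intro P hP hle hPs
    by_contra hne
    have hlt : P.comap φ < q := Ideal.IsIntegral.comap_lt_comap (R := A) (lt_of_le_of_ne hle hne)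
    exact hlt.not_ge (hs.2 ⟨inferInstance, Ideal.span_le.2 fun x hx => hPs x hx⟩ hlt.le)
  have hsn : s.card = n := by
    have h1 : (orig k n).height ≤ (s.image φ).card := by
      refine Ideal.height_le_card_of_mem_minimalPrimes_span_finset ⟨⟨inferInstance, ?_⟩, fun P hP hle => ?_⟩
      · rw [Ideal.span_le, Finset.coe_image]
        rintro _ ⟨x, hx, rfl⟩
        exact hs.1.2 (Ideal.subset_span hx)
      · exact (hincomp P hP.1 hle fun x hx => hP.2 (Ideal.subset_span (Finset.mem_image_of_mem _ hx))).ge
    rw [Groth.L19.SquarePres.height_maximal] at h1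
    have h2 : q.height ≤ (orig k n).height := by
      rw [Ideal.height_eq_height_add_of_liesOver_of_hasGoingDown q (orig k n)]
      exact le_self_add
    rw [Groth.L19.SquarePres.height_maximal, ← hsc] at h2
    exact le_antisymm (by exact_mod_cast h2) ((by exact_mod_cast h1 : n ≤ (s.image φ).card).trans Finset.card_image_le)
  let eqv : Fin n ≃ s := (Fintype.equivFinOfCardEq (by rw [Fintype.card_coe]; exact hsn)).symm
  let f : Fin n → A := fun i => (eqv i : A)
  have hf : ∀ i, f i ∈ q := fun i => hs.1.2 (Ideal.subset_span (eqv i).2)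
  have hmin : ∀ P : Ideal (MvPolynomial (Fin n) k), P.IsPrime → P ≤ orig k n →
      (∀ i, φ (f i) ∈ P) → P = orig k n := fun P hP hle h => hincomp P hP hle fun x hx => by
    simpa [f] using h (eqv.symm ⟨x, hx⟩)
  -- an equivariant coefficient matrix
  have hM0 : ∀ i, ∃ c : Fin n → MvPolynomial (Fin n) k, ∑ l, c l * X l = φ (f i) := fun i => by
    rw [← Ideal.mem_span_range_iff_exists_fun, ← orig_eq_span]
    exact hf i
  choose c hc using hM0
  let R : G → Matrix (Fin n) (Fin n) (MvPolynomial (Fin n) k) := fun g =>
    (Matrix.transpose (ρ g : Matrix (Fin n) (Fin n) k)).map C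
  let act : G → Matrix (Fin n) (Fin n) (MvPolynomial (Fin n) k) → Matrix (Fin n) (Fin n) (MvPolynomial (Fin n) k) :=
    fun g W => (W.map (g • ·)) * R g
  let M : Matrix (Fin n) (Fin n) (MvPolynomial (Fin n) k) := (C N⁻¹ : MvPolynomial (Fin n) k) • ∑ g : G, act g (Matrix.of c)
  let Xv : Fin n → MvPolynomial (Fin n) k := fun l => X l
  have hRX : ∀ g, (R g).mulVec Xv = fun i => g • Xv i := fun g => funext fun i => by
    simp only [R, Xv, Matrix.mulVec, dotProduct, Matrix.map_apply, Matrix.transpose_apply, hX, smul_eq_C_mul]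
  have hact : ∀ g, (act g (Matrix.of c)).mulVec Xv = fun i => φ (f i) := fun g => by
    show ((Matrix.of c).map (g • ·) * R g).mulVec Xv = _
    rw [← Matrix.mulVec_mulVec, hRX]
    funext i
    simp only [Matrix.mulVec, dotProduct, Matrix.map_apply, Matrix.of_apply, ← smul_mul', ← Finset.smul_sum, Xv, hc,
      hfix]
  have hfM : ∀ i, φ (f i) = ∑ l, M i l * X l := fun i => by
    show _ = (M.mulVec Xv) i
    simp only [M, Matrix.smul_mulVec, Matrix.sum_mulVec, hact, Pi.smul_apply, Finset.sum_apply,
      Finset.sum_const, Finset.card_univ, smul_eq_mul]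
    exact (hcard _).symm
  have hMinv : ∀ h : G, h • M.det = M.det := fun h => by
    have hmap : M.map (h • ·) * R h = M := by
      have e : ∀ g, (act g (Matrix.of c)).map (h • ·) * R h = act (h * g) (Matrix.of c) := fun g => by
        have hR : R g * R h = R (h * g) := by
          simp only [R, map_mul, Units.val_mul, Matrix.transpose_mul, Matrix.map_mul]
        have hR' : (R g).map (h • ·) = R g := by
          ext a b : 1
          simp [R, hC]
        show ((Matrix.of c).map (g • ·) * R g).map (MulSemiringAction.toRingHom G (MvPolynomial (Fin n) k) h) * R h = _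
        rw [Matrix.map_mul]
        show ((Matrix.of c).map (g • ·)).map (h • ·) * (R g).map (h • ·) * R h = _
        rw [hR', Matrix.mul_assoc, hR, Matrix.map_map]
        show _ = (Matrix.of c).map ((h * g) • ·) * R (h * g)
        simp only [Function.comp_def, smul_smul]
      have hMmap : M.map (h • ·) = (C N⁻¹ : MvPolynomial (Fin n) k) • ∑ g : G, (act g (Matrix.of c)).map (h • ·) := by
        ext a b : 1
        simp [M, Matrix.sum_apply, smul_mul', hC, Finset.smul_sum, Finset.mul_sum]
      rw [hMmap, Matrix.smul_mul, Matrix.sum_mul]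
      simp only [e]
      exact congrArg ((C N⁻¹ : MvPolynomial (Fin n) k) • ·) (Equiv.sum_comp (Equiv.mulLeft h) (fun g => act g (Matrix.of c)))
    have hRdet : (R h).det = 1 := by
      show ((C : k →+* MvPolynomial (Fin n) k).mapMatrix (Matrix.transpose (ρ h : Matrix (Fin n) (Fin n) k))).det = 1
      rw [← RingHom.map_det, Matrix.det_transpose, hdet, map_one]
    conv_rhs => rw [← hmap, Matrix.det_mul, hRdet, mul_one]
    exact (MulSemiringAction.toRingHom G (MvPolynomial (Fin n) k) h).map_det M
  obtain ⟨δ, hδ⟩ := Algebra.IsInvariant.isInvariant (A := A) (G := G) M.det hMinv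
  have hloc : LocCoh.IsGorensteinLocalRing (Localization.AtPrime q) :=
    gorenstein_localization_origin ret hret hNorm f hf hmin δ M hδ hfM
  -- the grading
  let v : G → Fin n → MvPolynomial (Fin n) k := fun g i =>
    ∑ l : Fin n, (ρ g : Matrix (Fin n) (Fin n) k) l i • (X l : MvPolynomial (Fin n) k)
  have hv : ∀ g i, (v g i).IsHomogeneous 1 := fun g i =>
    IsHomogeneous.sum _ _ 1 fun l _ => by
      rw [smul_eq_C_mul]
      exact (isHomogeneous_X k l).C_mul _
  have hproj : ∀ (d : ℤ) (a : A), ∃ b : A, φ b = proj k n d (φ a) := fun d a =>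
    Algebra.IsInvariant.isInvariant (G := G) _ fun g => by
      rw [smul_eq_aeval G ρ hC hX g, ← proj_aeval (v g) (hv g), ← smul_eq_aeval G ρ hC hX g, hfix]
  choose π hπ using hproj
  let P : ℤ → AddSubgroup A := fun d => (piece k n d).comap φ.toAddMonoidHom
  have hint : DirectSum.IsInternal P := by
    refine Groth.L12.GrLCLib.isInternal_of_pr P
      (fun d => AddMonoidHom.mk' (π d) fun a b => hinj (by simp only [map_add, hπ])) ?_ ?_ ?_
    · intro d a ha
      refine hinj ?_
      show φ (π d a) = φ a
      rw [hπ, proj_of_mem (show φ a ∈ piece k n d from ha), if_pos rfl]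
    · intro d e hde a ha
      refine hinj ?_
      show φ (π e a) = φ 0
      rw [hπ, proj_of_mem (show φ a ∈ piece k n d from ha), if_neg (Ne.symm hde), map_zero]
    · intro a
      have hsum : a = ∑ i ∈ Finset.range ((φ a).totalDegree + 1), π (i : ℤ) a := hinj (by
        simp only [map_sum, hπ, proj_natCast]
        exact (sum_homogeneousComponent _).symm)
      rw [hsum]
      exact sum_mem fun i _ => AddSubgroup.mem_iSup_of_mem (i : ℤ) (by
        show φ (π i a) ∈ piece k n i
        rw [hπ]
        exact proj_mem _ _)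
  haveI : SetLike.GradedMonoid P :=
    { one_mem := by
        show φ 1 ∈ piece k n 0
        rw [map_one]
        exact one_mem_piece
      mul_mem := fun d e a b ha hb => by
        show φ (a * b) ∈ piece k n (d + e)
        rw [map_mul]
        exact mul_mem_piece ha hb }
  letI : DirectSum.Decomposition P := hint.chooseDecomposition
  letI : GradedRing P := { }
  have hdec : ∀ (d : ℤ) (a : A), φ (DirectSum.decompose P a d : A) = proj k n d (φ a) := fun d a => by
    induction a using DirectSum.Decomposition.inductionOn P with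
    | zero => simp
    | @homogeneous e m =>
      rw [proj_of_mem (e := e) (show φ (m : A) ∈ piece k n e from m.2)]
      split_ifs with h
      · subst h
        rw [DirectSum.decompose_of_mem_same _ m.2]
      · rw [DirectSum.decompose_of_mem_ne _ m.2 (Ne.symm h), map_zero]
    | add a b ha hb =>
      rw [DirectSum.decompose_add, DirectSum.add_apply, AddMemClass.coe_add, map_add, map_add, map_add, ha, hb]
  have hcc0 : ∀ (d : ℤ) (p : MvPolynomial (Fin n) k),
      constantCoeff (proj k n d p) = if d = 0 then constantCoeff p else 0 := fun d p => by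
    by_cases hd : 0 ≤ d
    · lift d to ℕ using hd
      rw [proj_natCast, constantCoeff_eq, coeff_homogeneousComponent]
      rcases Nat.eq_zero_or_pos d with rfl | hd0
      · simp
      · simp [hd0.ne, hd0.ne']
    · rw [proj, if_neg hd, if_neg (fun h : d = 0 => hd (le_of_eq h.symm))]
      simp
  have hhom : q.IsHomogeneous P := fun d a ha => by
    show constantCoeff (φ (DirectSum.decompose P a d : A)) = 0
    rw [hdec, hcc0]
    have : constantCoeff (φ a) = 0 := ha
    simp [this]
  let m : HomogeneousIdeal P := ⟨q, hhom⟩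
  have hle : ∀ J : HomogeneousIdeal P, J ≠ ⊤ → J ≤ m := by
    intro J hJ x hx
    show constantCoeff (φ x) = 0
    by_contra hne
    have h0 : φ (DirectSum.decompose P x 0 : A) = C (constantCoeff (φ x)) := by
      rw [hdec, ← Nat.cast_zero, proj_natCast, homogeneousComponent_zero, constantCoeff_eq]
    have hu : IsUnit (DirectSum.decompose P x 0 : A) := by
      rw [show (DirectSum.decompose P x 0 : A) = jk (constantCoeff (φ x)) from hinj (h0.trans (hj _).symm)]
      exact (isUnit_iff_ne_zero.2 hne).map jk
    exact hJ (HomogeneousIdeal.toIdeal_injective (Ideal.eq_top_of_isUnit_mem _ (J.isHomogeneous 0 hx) hu))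
  have hstar : GrLC.IsStarLocal P m := by
    have hmne : m ≠ ⊤ := fun h => hqmax.ne_top (congrArg HomogeneousIdeal.toIdeal h)
    refine ⟨⟨hmne, fun J hJ => by_contra fun hJt => hJ.not_ge (hle J hJt)⟩, fun J hJ => ?_⟩
    rcases eq_or_lt_of_le (hle J hJ.1) with h | h
    · exact h
    · exact absurd (hJ.2 _ h) hmne
  haveI : m.toIdeal.IsPrime := hqmax.isPrime
  exact Groth.L12.GrLCLib.isGorensteinRing_of_starLocal hstar hloc

end Groth.L08.Watanabe
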